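import Groth.Agent.CurvSt.K877.UCLift
import Groth.Agent.AlgSt.K735.DvrMain
import Groth.Agent.AlgSt.K741.QcqsS

/-!
# Universal closedness of the structure functor from limits over discrete valuation rings

`isUnivClosed_any`: `S` locally Noetherian and quasi-separated, `𝒳` a quasi-compact algebraic stack locally of finite type
over `S` (in any universes) such that limits over discrete valuation rings with algebraically closed residue field exist
after an extension; then `𝒳 ⟶ S` is universally closed.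
-/

set_option autoImplicit false
set_option backward.isDefEq.respectTransparency false
set_option backward.isDefEq.respectTransparency.types false

universe v' w' v w u

open CategoryTheory CategoryTheory.Limits AlgebraicGeometry Opposite AlgSp

namespace Groth.Agent.CurvSt.K877.UCGen

open K735.Fib K735.Fp K735.Rep K735.Pts K735.PtsSp K735.Top K735.Cart K735.ClosedLim K735.DvrSpec K735.UnivClosedDvr
  K735.DvrMain Groth.Agent.CurvSt.K877.UCLift

variable {S : Scheme.{u}}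

section Cat

variable {𝒳 : AlgSt.Cat S}

theorem isUnivClosed_cat [IsLocallyNoetherian S] (h𝒳 : AlgSt.IsAlgStack Scheme.fppfPrecoverage 𝒳)
    (hft : AlgSt.LocQ (LocP @LocallyOfFiniteType) (FibCat.toSelf 𝒳))
    (hqc : AlgSt.IsQuasiCompactMor Scheme.fppfPrecoverage (FibCat.toSelf 𝒳)) (H : ObjLift 𝒳) :
    AlgSt.IsUnivClosed Scheme.etalePrecoverage (FibCat.toSelf 𝒳) := by
  have h𝒴 : AlgSt.IsAlgStack Scheme.fppfPrecoverage (FibCat.selfOver (Over S)) := K741.isAlgStack_selfOver S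
  have g𝒳 : FibCat.IsFibGrpd 𝒳.p := h𝒳.isStack.1
  have g𝒴 : FibCat.IsFibGrpd (FibCat.selfOver (Over S)).p := h𝒴.isStack.1
  have hval := dvrLift g𝒳 H
  have hn𝒴 : ∀ (V : Over S) (y : FibCat.overCat V ⥤ᵇ FibCat.selfOver (Over S)),
      AlgSt.RepByAlgSpWith (LocP @Smooth) y → IsLocallyNoetherian V.left := by
    intro V y hy
    have : Smooth V.hom := K902.SelfChart.smooth_of_repByAlgSpWith hy
    exact LocallyOfFiniteType.isLocallyNoetherian V.hom
  have h𝒳' := isAlgStack_et_of_fppf h𝒳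
  have h𝒴' := isAlgStack_et_of_fppf h𝒴
  let f := FibCat.toSelf 𝒳
  have hfp : ∀ (𝒵 : AlgSt.Cat S), AlgSt.IsAlgStack Scheme.etalePrecoverage 𝒵 →
      ∀ (g : 𝒵 ⥤ᵇ FibCat.selfOver (Over S)), AlgSt.IsAlgStack Scheme.etalePrecoverage (FibCat.fp g f) := fun 𝒵 h𝒵 g =>
    K734.Rep.isAlgStack_fp (K734.Rep.isPrestack_of_isStack h𝒴'.isStack) h𝒴'.diag h𝒵 h𝒳' g f
  have hT : ∀ (T : Over S) (v : FibCat.overCat T ⥤ᵇ FibCat.selfOver (Over S)),
      IsClosedMap (AlgSt.Points.map (FibCat.fpFst v f)) := by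
    intro T v
    refine isClosedMap_of_local g𝒳 g𝒴 h𝒴.atlas f v
      (chartCont_of_isAlgStack (hfp _ (isAlgStack_overCat_et T) v)) ?_
    intro R B _ _ _ sV y hy
    have hN : IsLocallyNoetherian (Spec (CommRingCat.of R)) := hn𝒴 _ y hy
    have : IsAffine (Over.mk sV : Over S).left := inferInstanceAs (IsAffine (Spec (CommRingCat.of R)))
    obtain ⟨U, x₀, hU, hx₀, hx₀s⟩ := hqc (FibCat.overCat (Over.mk sV)) (K744.AlgOver.isAlgStack_overCat _)
      (K743.QC.isQuasiCompact_overCat _) y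
    let x : FibCat.overCat U ⥤ᵇ FibCat.fp f y := BasedFunctor.comp x₀ (K735.Fp.fpSwap y f)
    have hsw := isEquivOver_fpSwap y f
    have hx : AlgSt.RepByAlgSpWith (LocP @Smooth) x :=
      (repByAlgSpWith_iff_of_sq _ x x₀ (BasedFunctor.id _) (K735.Fp.fpSwap y f) isEquivOver_id hsw (Iso.refl _)).2 hx₀
    have hxs : Function.Surjective (AlgSt.Points.ofChart x) := by
      rw [← surjective_map_iff_surjective_ofChart]
      intro z
      obtain ⟨z, rfl⟩ := (map_bijective_of_isEquivOver hsw).2 z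
      obtain ⟨w, rfl⟩ := surjective_of_repByAlgSpWith (isFibGrpd_fp (isFibGrpd_overCat _) g𝒳 g𝒴 y f)
        (isFibGrpd_overCat U) hx₀s z
      exact ⟨w, map_comp _ _ _⟩
    obtain ⟨q, θ, hq⟩ := exists_chart_lft g𝒳 g𝒴 hft y hy x hx
    exact isClosedMap_aff g𝒳 g𝒴 hval sV y x hx hxs θ
  intro 𝒵 h𝒵 g D hD
  rw [← isOpen_compl_iff]
  intro T w _
  have h1 := preimage_image_fp g𝒳 g𝒴 h𝒵.isStack.1 g f w D
  rw [Set.preimage_compl, h1, isOpen_compl_iff, ← isClosed_iff]
  exact hT T _ _ (hD.preimage (continuous_map (chartCont_of_isAlgStack (hfp 𝒵 h𝒵 g)) _))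

end Cat

section Any

variable {𝒳 : BasedCategory.{v, w} (Over S)} {𝒳' : BasedCategory.{v', w'} (Over S)}

theorem isUnivClosed_of_equiv {K : Precoverage Scheme.{u}} {e : 𝒳' ⥤ᵇ 𝒳} (he : FibCat.IsEquivOver e)
    (h : AlgSt.IsUnivClosed K (FibCat.toSelf 𝒳)) : AlgSt.IsUnivClosed K (FibCat.toSelf 𝒳') := by
  have h0 : FibCat.toSelf 𝒳' = BasedFunctor.comp e (FibCat.toSelf 𝒳) := (K738.Lft.comp_toSelf e).symm
  rw [h0]
  intro 𝒵 h𝒵 g
  have e1 := K735.Univ.isHomeomorph_map_of_isEquivOver (K734.Fib.isEquivOver_fpPreR g e he (FibCat.toSelf 𝒳))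
  have e2 : AlgSt.Points.map (FibCat.fpFst g (BasedFunctor.comp e (FibCat.toSelf 𝒳))) =
      AlgSt.Points.map (FibCat.fpFst g (FibCat.toSelf 𝒳)) ∘
        AlgSt.Points.map (K734.Fib.fpPreR g e (FibCat.toSelf 𝒳)) := by
    funext z
    rw [Function.comp_apply, ← map_comp]
    rfl
  rw [e2]
  exact (h 𝒵 h𝒵 g).comp e1.isClosedMap

theorem isQuasiCompact_of_equiv {e : 𝒳 ⥤ᵇ 𝒳'} (he : FibCat.IsEquivOver e) (h : AlgSt.IsQuasiCompact 𝒳) :
    AlgSt.IsQuasiCompact 𝒳' := by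
  obtain ⟨U, x, hU, hx, hxs⟩ := h
  exact ⟨U, BasedFunctor.comp x e, hU, (K740.SpDM.repByAlgSpWith_comp_equiv he).2 hx,
    (K740.SpDM.repByAlgSpWith_comp_equiv he).2 hxs⟩

/-- **Universal closedness from limits over discrete valuation rings.** -/
theorem isUnivClosed_any [IsLocallyNoetherian S] [QuasiSeparatedSpace S]
    (h𝒳 : AlgSt.IsAlgStack Scheme.fppfPrecoverage 𝒳)
    (hft : AlgSt.LocQ (LocP @LocallyOfFiniteType) (FibCat.toSelf 𝒳)) (hqc : AlgSt.IsQuasiCompact 𝒳) (H : ObjLift 𝒳) :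
    AlgSt.IsUnivClosed Scheme.etalePrecoverage (FibCat.toSelf 𝒳) := by
  obtain ⟨𝒳', e, he, h𝒳'⟩ := K738.Small.exists_model' h𝒳
  obtain ⟨e', he', -, -⟩ := K734.Fib.exists_inverse he
  have hqc' : AlgSt.IsQuasiCompact 𝒳' := isQuasiCompact_of_equiv he' hqc
  exact isUnivClosed_of_equiv he' (isUnivClosed_cat h𝒳' ((K738.Sep.locQ_toSelf_iff he).2 hft)
    (K741.isQuasiCompactMor_toSelf h𝒳' hqc') (H.of_equiv he))

end Any

end Groth.Agent.CurvSt.K877.UCGen
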