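import Groth.Agent.AlgSt.K735.DvrSpec
import Groth.Agent.AlgSt.K738.Sep2

/-!
# Lifting of points over discrete valuation rings, for stacks in any universes

* `K877.UCLift.ObjLift 𝒳`: limits of objects over discrete valuation rings with algebraically closed residue field exist
  after an extension of the discrete valuation ring;
* `objLift_of_fiber`: `ObjLift` from the form with fibre categories and finite extensions of the fraction field (S18729);
* `ObjLift.of_equiv`: invariance under equivalences;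
* `dvrLift`: `ObjLift 𝒳` gives the valuative criterion `K735.DvrSpec.DvrLift` for the structure functor.
-/

set_option autoImplicit false
set_option backward.isDefEq.respectTransparency false
set_option backward.isDefEq.respectTransparency.types false

universe v' w' v w u

open CategoryTheory CategoryTheory.Limits AlgebraicGeometry Opposite AlgSp

namespace Groth.Agent.CurvSt.K877.UCLift

section Local

/-- A discrete valuation ring is not dominated after inverting the uniformizer: an injective map of discrete valuation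
rings inducing an integral extension of fraction fields is local. -/
theorem isLocalHom_of_integral {R R' L L' : Type u} [CommRing R] [IsDomain R] [IsDiscreteValuationRing R]
    [CommRing R'] [IsDomain R'] [IsDiscreteValuationRing R'] [Field L] [Field L'] [Algebra R L] [IsFractionRing R L]
    [Algebra R' L'] [IsFractionRing R' L'] [Algebra R R'] [Algebra L L'] [Algebra R L'] [IsScalarTower R R' L']
    [IsScalarTower R L L'] [Algebra.IsIntegral L L'] : IsLocalHom (algebraMap R R') := by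
  constructor
  intro x hx
  by_contra hnx
  have hinj : Function.Injective (algebraMap R R') := by
    have h1 : Function.Injective (algebraMap R L') := by
      rw [IsScalarTower.algebraMap_eq R L L']
      exact (algebraMap L L').injective.comp (IsFractionRing.injective R L)
    rw [IsScalarTower.algebraMap_eq R R' L'] at h1
    exact Function.Injective.of_comp h1
  have hx0 : x ≠ 0 := by
    rintro rfl
    rw [map_zero] at hx
    exact not_isUnit_zero hx
  obtain ⟨ϖ, hϖ⟩ := IsDiscreteValuationRing.exists_irreducible R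
  obtain ⟨n, u, hu⟩ := IsDiscreteValuationRing.eq_unit_mul_pow_irreducible hx0 hϖ
  have hn : n ≠ 0 := by
    rintro rfl
    exact hnx (by rw [hu, pow_zero, mul_one]; exact u.isUnit)
  have hϖ' : IsUnit (algebraMap R R' ϖ) := by
    rw [hu, map_mul, map_pow] at hx
    exact (isUnit_pow_iff hn).1 (isUnit_of_mul_isUnit_right hx)
  have hall : ∀ y : nonZeroDivisors R, IsUnit (algebraMap R R' y) := by
    rintro ⟨y, hy⟩
    obtain ⟨m, v, hv⟩ := IsDiscreteValuationRing.eq_unit_mul_pow_irreducible (nonZeroDivisors.ne_zero hy) hϖ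
    change IsUnit (algebraMap R R' y)
    rw [hv, map_mul, map_pow]
    exact (v.isUnit.map _).mul (hϖ'.pow m)
  let g : L →+* R' := IsLocalization.lift hall
  have hg : (algebraMap R' L').comp g = algebraMap L L' := by
    refine IsLocalization.ringHom_ext (nonZeroDivisors R) ?_
    ext r
    simp only [RingHom.comp_apply]
    rw [IsLocalization.lift_eq, ← IsScalarTower.algebraMap_apply, ← IsScalarTower.algebraMap_apply]
  let _ : Algebra L R' := g.toAlgebra
  have : IsScalarTower L R' L' := IsScalarTower.of_algebraMap_eq' hg.symm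
  have hint : Algebra.IsIntegral R' L' := Algebra.IsIntegral.tower_top (R := L)
  have hsurj : Function.Surjective (algebraMap R' L') := fun y => IsIntegrallyClosed.algebraMap_eq_of_integral (hint.isIntegral y)
  refine IsDiscreteValuationRing.not_isField R' ?_
  exact MulEquiv.isField (Field.toIsField L')
    (RingEquiv.ofBijective (algebraMap R' L') ⟨IsFractionRing.injective R' L', hsurj⟩).toMulEquiv

end Local

variable {S : Scheme.{u}}

/-- Limits of objects over discrete valuation rings (with algebraically closed residue field) exist after an extension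
of the discrete valuation ring. -/
def ObjLift (𝒳 : BasedCategory.{v, w} (Over S)) : Prop :=
  ∀ (R : Type u) [CommRing R] [IsDomain R] [IsDiscreteValuationRing R], IsAlgClosed (IsLocalRing.ResidueField R) →
    ∀ (L : Type u) [Field L] [Algebra R L] [IsFractionRing R L] (a : Spec (CommRingCat.of R) ⟶ S) (A : 𝒳.obj),
      𝒳.p.obj A = Over.mk (Spec.map (CommRingCat.ofHom (algebraMap R L)) ≫ a) →
      ∃ (R' : Type u) (_ : CommRing R') (_ : IsDomain R') (_ : IsDiscreteValuationRing R')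
        (L' : Type u) (_ : Field L') (_ : Algebra R' L') (_ : IsFractionRing R' L') (φ : R →+* R') (ψ : L →+* L')
        (s' : Spec (CommRingCat.of R') ⟶ S) (t : Spec (CommRingCat.of L') ⟶ S)
        (jψ : (Over.mk t : Over S) ⟶ Over.mk (Spec.map (CommRingCat.ofHom (algebraMap R L)) ≫ a))
        (jφ : (Over.mk t : Over S) ⟶ Over.mk s') (A' B : 𝒳.obj) (r : B ⟶ A) (r' : B ⟶ A'),
        IsLocalHom φ ∧ (algebraMap R' L').comp φ = ψ.comp (algebraMap R L) ∧
          s' = Spec.map (CommRingCat.ofHom φ) ≫ a ∧ jψ.left = Spec.map (CommRingCat.ofHom ψ) ∧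
          jφ.left = Spec.map (CommRingCat.ofHom (algebraMap R' L')) ∧ 𝒳.p.IsHomLift jψ r ∧ 𝒳.p.IsHomLift jφ r'

/-- `ObjLift` from the form with fibre categories and finite extensions of the fraction field. -/
theorem objLift_of_fiber {𝒳 : BasedCategory.{v, w} (Over S)}
    (H : ∀ (R : Type u) [CommRing R] [IsDomain R] [IsDiscreteValuationRing R],
      IsAlgClosed (IsLocalRing.ResidueField R) →
      ∀ (L : Type u) [Field L] [Algebra R L] [IsFractionRing R L]
        (a : Spec (CommRingCat.of R) ⟶ S)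
        (A : 𝒳.p.Fiber (Over.mk (Spec.map (CommRingCat.ofHom (algebraMap R L)) ≫ a))),
      ∃ (R' : Type u) (_ : CommRing R') (_ : IsDomain R') (_ : IsDiscreteValuationRing R')
        (L' : Type u) (_ : Field L') (_ : Algebra R' L') (_ : IsFractionRing R' L')
        (_ : Algebra R R') (_ : Algebra L L') (_ : FiniteDimensional L L') (_ : Algebra R L')
        (_ : IsScalarTower R R' L') (_ : IsScalarTower R L L'),
        Function.Injective (algebraMap R R') ∧
        ∃ (A' : 𝒳.p.Fiber (Over.mk (Spec.map (CommRingCat.ofHom (algebraMap R R')) ≫ a)))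
          (B : 𝒳.p.Fiber (Over.mk (Spec.map (CommRingCat.ofHom (algebraMap L L')) ≫
              Spec.map (CommRingCat.ofHom (algebraMap R L)) ≫ a)))
          (ψ : B.1 ⟶ A.1) (φ : B.1 ⟶ A'.1)
          (jφ : Over.mk (Spec.map (CommRingCat.ofHom (algebraMap L L')) ≫
              Spec.map (CommRingCat.ofHom (algebraMap R L)) ≫ a) ⟶
            Over.mk (Spec.map (CommRingCat.ofHom (algebraMap R R')) ≫ a)),
          𝒳.p.IsHomLift (Over.homMk (Spec.map (CommRingCat.ofHom (algebraMap L L'))) rfl :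
              Over.mk (Spec.map (CommRingCat.ofHom (algebraMap L L')) ≫
                  Spec.map (CommRingCat.ofHom (algebraMap R L)) ≫ a) ⟶
                Over.mk (Spec.map (CommRingCat.ofHom (algebraMap R L)) ≫ a)) ψ ∧
            jφ.left = Spec.map (CommRingCat.ofHom (algebraMap R' L')) ∧ 𝒳.p.IsHomLift jφ φ) : ObjLift 𝒳 := by
  intro R _ _ _ hR L _ _ _ a A hA
  obtain ⟨R', _, _, _, L', _, _, _, _, _, _, _, _, _, hinj, A', B, ψ, φ, jφ, h1, h2, h3⟩ := H R hR L a ⟨A, hA⟩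
  refine ⟨R', inferInstance, inferInstance, inferInstance, L', inferInstance, inferInstance, inferInstance,
    algebraMap R R', algebraMap L L', _, _, _, jφ, A'.1, B.1, ψ, φ, isLocalHom_of_integral (L := L) (L' := L'), ?_,
    rfl, ?_, h2, h1, h3⟩
  · rw [← IsScalarTower.algebraMap_eq, ← IsScalarTower.algebraMap_eq]
  · rfl

/-- Invariance under equivalences. -/
theorem ObjLift.of_equiv {𝒳 : BasedCategory.{v, w} (Over S)} {𝒳' : BasedCategory.{v', w'} (Over S)} {e : 𝒳' ⥤ᵇ 𝒳}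
    (he : FibCat.IsEquivOver e) (H : ObjLift 𝒳) : ObjLift 𝒳' := by
  have hf := K734.Fib.full_of he
  intro R _ _ _ hR L _ _ _ a A hA
  obtain ⟨R', _, _, _, L', _, _, _, φ, ψ, s', t, jψ, jφ, A', B, r, r', h1, h2, h3, h4, h5, h6, h7⟩ :=
    H R hR L a (e.obj A) ((e.w_obj A).trans hA)
  obtain ⟨A₁, i, hi⟩ := K734.Fib.essSurjOver_of he A'
  obtain ⟨B₁, k, hk⟩ := K734.Fib.essSurjOver_of he B
  obtain ⟨r₁, hr₁⟩ := e.toFunctor.map_surjective (k.hom ≫ r)
  obtain ⟨r₂, hr₂⟩ := e.toFunctor.map_surjective (k.hom ≫ r' ≫ i.inv)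
  have hB : 𝒳.p.obj B = Over.mk t := IsHomLift.domain_eq 𝒳.p jψ r
  have hA' : 𝒳.p.obj A' = Over.mk s' := IsHomLift.codomain_eq 𝒳.p jφ r'
  have hk' : 𝒳.p.IsHomLift (𝟙 (Over.mk t)) k.hom := hk.lift' hB
  have hi' : 𝒳.p.IsHomLift (𝟙 (Over.mk s')) i.inv := hi.inv.lift hA'
  refine ⟨R', inferInstance, inferInstance, inferInstance, L', inferInstance, inferInstance, inferInstance, φ, ψ, s', t,
    jψ, jφ, A₁, B₁, r₁, r₂, h1, h2, h3, h4, h5, (e.isHomLift_iff _ _).1 ?_, (e.isHomLift_iff _ _).1 ?_⟩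
  · change 𝒳.p.IsHomLift jψ (e.toFunctor.map r₁)
    rw [hr₁]
    infer_instance
  · change 𝒳.p.IsHomLift jφ (e.toFunctor.map r₂)
    rw [hr₂]
    infer_instance

section Dvr

open K735.Fib K735.Fp K735.Cart

/-- Objects with lifts of the same morphisms to the legs of a span are isomorphic. -/
theorem exists_vert_of_span {C : Type w'} [Category.{v'} C] {𝒳 : BasedCategory.{v, w} C} (h𝒳 : FibCat.IsFibGrpd 𝒳.p)
    {W T U V : C} (lam : W ⟶ T) (jψ : T ⟶ V) (jφ : T ⟶ U) {A A' B X₁ X₂ : 𝒳.obj} (r : B ⟶ A) (r' : B ⟶ A')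
    (hr : 𝒳.p.IsHomLift jψ r) (hr' : 𝒳.p.IsHomLift jφ r') (u₁ : X₁ ⟶ A') (u₂ : X₂ ⟶ A)
    (hu₁ : 𝒳.p.IsHomLift (lam ≫ jφ) u₁) (hu₂ : 𝒳.p.IsHomLift (lam ≫ jψ) u₂) : ∃ m : X₁ ⟶ X₂, Vert 𝒳.p m := by
  have hA : 𝒳.p.obj A = V := IsHomLift.codomain_eq 𝒳.p jψ r
  have hA' : 𝒳.p.obj A' = U := IsHomLift.codomain_eq 𝒳.p jφ r'
  have hB : 𝒳.p.obj B = T := IsHomLift.domain_eq 𝒳.p jφ r'
  have hX₁ : 𝒳.p.obj X₁ = W := IsHomLift.domain_eq 𝒳.p (lam ≫ jφ) u₁
  have hX₂ : 𝒳.p.obj X₂ = W := IsHomLift.domain_eq 𝒳.p (lam ≫ jψ) u₂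
  subst hA hA' hB
  have e1 : 𝒳.p.map r = jψ := (IsHomLift.fac' 𝒳.p jψ r).trans (by simp)
  have e2 : 𝒳.p.map r' = jφ := (IsHomLift.fac' 𝒳.p jφ r').trans (by simp)
  have e3 : 𝒳.p.map u₁ = eqToHom hX₁ ≫ lam ≫ jφ := (IsHomLift.fac' 𝒳.p (lam ≫ jφ) u₁).trans (by simp)
  have e4 : 𝒳.p.map u₂ = eqToHom hX₂ ≫ lam ≫ jψ := (IsHomLift.fac' 𝒳.p (lam ≫ jψ) u₂).trans (by simp)
  obtain ⟨χ, hχ1, -⟩ := exists_hom h𝒳 r' u₁ (eqToHom hX₁ ≫ lam) (by rw [e2, e3, Category.assoc])
  obtain ⟨m, hm1, -⟩ := exists_hom h𝒳 u₂ (χ ≫ r) (eqToHom (hX₁.trans hX₂.symm)) (by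
    rw [Functor.map_comp, hχ1, e1, e4, eqToHom_trans_assoc, Category.assoc])
  exact ⟨m, vert_of_map_eq _ hm1⟩

variable {𝒳 : BasedCategory.{v, w} (Over S)}

theorem isHomLift_overHom {U : Over S} {x y : (FibCat.overCat U).obj} (φ : x ⟶ y) :
    (FibCat.overCat U).p.IsHomLift φ.left φ := IsHomLift.map (FibCat.overCat U).p φ

/-- Functors from a slice send slice morphisms to lifts. -/
theorem isHomLift_map {U : Over S} (F : FibCat.overCat U ⥤ᵇ 𝒳) {x y : (FibCat.overCat U).obj} (φ : x ⟶ y) :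
    𝒳.p.IsHomLift φ.left (F.map φ) :=
  (F.isHomLift_iff _ _).2 (isHomLift_overHom φ)

/-- The lifting square with a functor to the fibre product. -/
theorem exists_lift_fp (h𝒳 : FibCat.IsFibGrpd 𝒳.p) {K V₀ W T K₁ R' : Over S} (b : FibCat.overCat V₀ ⥤ᵇ FibCat.selfOver (Over S))
    (a : FibCat.overCat K ⥤ᵇ 𝒳) (j : K ⟶ V₀) (α : BasedFunctor.comp a (FibCat.toSelf 𝒳) ≅ BasedFunctor.comp (AlgSt.overMap j) b)
    (lam : W ⟶ T) (jψ : T ⟶ K₁) (g₁ : K₁ ⟶ K) (jφ : T ⟶ R') (Φ : R' ⟶ V₀) (hg : (lam ≫ jψ ≫ g₁) ≫ j = (lam ≫ jφ) ≫ Φ)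
    {A' B : 𝒳.obj} (r : B ⟶ a.obj (Over.mk g₁)) (r' : B ⟶ A') (hr : 𝒳.p.IsHomLift jψ r) (hr' : 𝒳.p.IsHomLift jφ r') :
    ∃ c : FibCat.overCat R' ⥤ᵇ FibCat.fp (FibCat.toSelf 𝒳) b,
      Nonempty (BasedFunctor.comp c (FibCat.fpSnd (FibCat.toSelf 𝒳) b) ≅ AlgSt.overMap Φ) ∧
      Nonempty (BasedFunctor.comp (AlgSt.overMap (lam ≫ jφ)) c ≅
        BasedFunctor.comp (AlgSt.overMap (lam ≫ jψ ≫ g₁)) (FibCat.fpLift a (AlgSt.overMap j) α)) := by
  have hA' : 𝒳.p.obj A' = R' := IsHomLift.codomain_eq 𝒳.p jφ r'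
  let y := yonF h𝒳 A' hA'
  let c : FibCat.overCat R' ⥤ᵇ FibCat.fp (FibCat.toSelf 𝒳) b :=
    FibCat.fpLift y (AlgSt.overMap Φ) (K902.SelfChart.isoSelf _ _)
  let φ₁ : (AlgSt.overMap (lam ≫ jφ)).obj (idObj W) ⟶ idObj R' := Over.homMk (lam ≫ jφ) (by
    change (lam ≫ jφ) ≫ 𝟙 R' = 𝟙 W ≫ lam ≫ jφ
    rw [Category.comp_id, Category.id_comp])
  let φ₂ : (AlgSt.overMap (lam ≫ jψ ≫ g₁)).obj (idObj W) ⟶ (Over.mk g₁ : Over K) := Over.homMk (lam ≫ jψ) (by
    change (lam ≫ jψ) ≫ g₁ = 𝟙 W ≫ lam ≫ jψ ≫ g₁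
    rw [Category.id_comp, Category.assoc])
  have hu₁ : 𝒳.p.IsHomLift (lam ≫ jφ) (y.map φ₁ ≫ (yonFIso h𝒳 A' hA').hom) := by
    have h1 : 𝒳.p.IsHomLift (lam ≫ jφ) (y.map φ₁) := isHomLift_map y φ₁
    have h2 : 𝒳.p.IsHomLift (𝟙 R') (yonFIso h𝒳 A' hA').hom := (vert_yonFIso h𝒳 A' hA').isHomLift (y.w_obj _)
    exact IsHomLift.comp_lift_id_right 𝒳.p (lam ≫ jφ) (y.map φ₁) (yonFIso h𝒳 A' hA').hom
  have hu₂ : 𝒳.p.IsHomLift (lam ≫ jψ) (a.map φ₂) := isHomLift_map a φ₂
  obtain ⟨m, hm⟩ := exists_vert_of_span h𝒳 lam jψ jφ r r' hr hr' _ _ hu₁ hu₂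
  have i₁ : BasedFunctor.comp (AlgSt.overMap (lam ≫ jφ)) y ≅ BasedFunctor.comp (AlgSt.overMap (lam ≫ jψ ≫ g₁)) a :=
    yonIso h𝒳 _ _ m hm
  obtain ⟨k1⟩ := exists_iso_overMap_comp (lam ≫ jφ) Φ
  obtain ⟨k2⟩ := exists_iso_overMap_comp (lam ≫ jψ ≫ g₁) j
  have i₂ : BasedFunctor.comp (AlgSt.overMap (lam ≫ jφ)) (AlgSt.overMap Φ) ≅
      BasedFunctor.comp (AlgSt.overMap (lam ≫ jψ ≫ g₁)) (AlgSt.overMap j) :=
    k1.trans ((overMapCongr hg.symm).trans k2.symm)
  refine ⟨c, ⟨Iso.refl _⟩, ⟨?_⟩⟩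
  refine K736.Fib.fpNatIso (P := BasedFunctor.comp (AlgSt.overMap (lam ≫ jφ)) c)
    (Q := BasedFunctor.comp (AlgSt.overMap (lam ≫ jψ ≫ g₁)) (FibCat.fpLift a (AlgSt.overMap j) α)) i₁ i₂ (fun x => ?_)
  have hv : ∀ {p q : (FibCat.selfOver (Over S)).obj} (f g : p ⟶ q), Vert (FibCat.selfOver (Over S)).p f →
      Vert (FibCat.selfOver (Over S)).p g → f = g := fun f g hf hg => hf.map_eq.trans hg.map_eq.symm
  refine hv _ _ ?_ ?_
  · exact ((vert_app i₁.hom x).map (FibCat.toSelf 𝒳)).comp (vert_app α.hom _)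
  · exact (vert_app (K902.SelfChart.isoSelf _ _).hom _).comp ((vert_app i₂.hom x).map b)

/-- The valuative criterion for the structure functor. -/
theorem dvrLift (h𝒳 : FibCat.IsFibGrpd 𝒳.p) (H : ObjLift 𝒳) : K735.DvrSpec.DvrLift (FibCat.toSelf 𝒳) := by
  intro R _ _ _ sR a b α
  obtain ⟨R₁, K₁, _, _, _, _, _, _, φ₁, ψ₁, hloc₁, hR₁, hc₁⟩ := K738.Sep.exists_ext R (FractionRing R)
  have hS₁ : Spec.map (CommRingCat.ofHom (algebraMap R₁ K₁)) ≫ Spec.map (CommRingCat.ofHom φ₁) =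
      Spec.map (CommRingCat.ofHom ψ₁) ≫ Spec.map (CommRingCat.ofHom (algebraMap R (FractionRing R))) := by
    rw [← Spec.map_comp, ← Spec.map_comp, ← CommRingCat.ofHom_comp, ← CommRingCat.ofHom_comp, hc₁]
  let g₁ : (Over.mk (Spec.map (CommRingCat.ofHom (algebraMap R₁ K₁)) ≫ Spec.map (CommRingCat.ofHom φ₁) ≫ sR) : Over S) ⟶
      Over.mk (Spec.map (CommRingCat.ofHom (algebraMap R (FractionRing R))) ≫ sR) :=
    Over.homMk (Spec.map (CommRingCat.ofHom ψ₁)) (by
      change Spec.map (CommRingCat.ofHom ψ₁) ≫ Spec.map (CommRingCat.ofHom (algebraMap R (FractionRing R))) ≫ sR = _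
      rw [← Category.assoc, ← hS₁, Category.assoc]
      rfl)
  obtain ⟨R', _, _, _, L', _, _, _, φ, ψ, s', t, jψ, jφ, A', B, r, r', hloc, hc, hs', hjψ, hjφ, hr, hr'⟩ :=
    H R₁ hR₁ K₁ (Spec.map (CommRingCat.ofHom φ₁) ≫ sR) (a.obj (Over.mk g₁)) (a.w_obj _)
  have hs'' : s' = Spec.map (CommRingCat.ofHom (φ.comp φ₁)) ≫ sR := by
    rw [hs', CommRingCat.ofHom_comp, Spec.map_comp, Category.assoc]
  subst hs''
  have hS : Spec.map (CommRingCat.ofHom (algebraMap R' L')) ≫ Spec.map (CommRingCat.ofHom φ) =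
      Spec.map (CommRingCat.ofHom ψ) ≫ Spec.map (CommRingCat.ofHom (algebraMap R₁ K₁)) := by
    rw [← Spec.map_comp, ← Spec.map_comp, ← CommRingCat.ofHom_comp, ← CommRingCat.ofHom_comp, hc]
  let ε : L' →+* FractionRing R' := ((FractionRing.algEquiv R' L').symm.toAlgHom : L' →ₐ[R'] FractionRing R').toRingHom
  have hε : Spec.map (CommRingCat.ofHom ε) ≫ Spec.map (CommRingCat.ofHom (algebraMap R' L')) =
      Spec.map (CommRingCat.ofHom (algebraMap R' (FractionRing R'))) := by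
    rw [← Spec.map_comp, ← CommRingCat.ofHom_comp]
    congr 2
    ext x
    exact (FractionRing.algEquiv R' L').symm.commutes x
  have ht : t = Spec.map (CommRingCat.ofHom (algebraMap R' L')) ≫ Spec.map (CommRingCat.ofHom (φ.comp φ₁)) ≫ sR := by
    rw [← hjφ]
    exact (Over.w jφ).symm
  let lam : (Over.mk (Spec.map (CommRingCat.ofHom (algebraMap R' (FractionRing R'))) ≫
      Spec.map (CommRingCat.ofHom (φ.comp φ₁)) ≫ sR) : Over S) ⟶ Over.mk t :=
    Over.homMk (Spec.map (CommRingCat.ofHom ε)) (by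
      change Spec.map (CommRingCat.ofHom ε) ≫ t = _
      rw [ht, ← Category.assoc, hε]
      rfl)
  have hlamφ : lam ≫ jφ = Over.homMk (Spec.map (CommRingCat.ofHom (algebraMap R' (FractionRing R')))) rfl :=
    Over.OverMorphism.ext (by
      rw [Over.comp_left, hjφ]
      exact hε)
  have hg : (lam ≫ jψ ≫ g₁) ≫ (Over.homMk (Spec.map (CommRingCat.ofHom (algebraMap R (FractionRing R)))) rfl :
        Over.mk (Spec.map (CommRingCat.ofHom (algebraMap R (FractionRing R))) ≫ sR) ⟶ Over.mk sR) =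
      (lam ≫ jφ) ≫ (Over.homMk (Spec.map (CommRingCat.ofHom (φ.comp φ₁))) rfl :
        Over.mk (Spec.map (CommRingCat.ofHom (φ.comp φ₁)) ≫ sR) ⟶ Over.mk sR) := by
    rw [hlamφ]
    apply Over.OverMorphism.ext
    change (Spec.map (CommRingCat.ofHom ε) ≫ jψ.left ≫ Spec.map (CommRingCat.ofHom ψ₁)) ≫
      Spec.map (CommRingCat.ofHom (algebraMap R (FractionRing R))) =
        Spec.map (CommRingCat.ofHom (algebraMap R' (FractionRing R'))) ≫ Spec.map (CommRingCat.ofHom (φ.comp φ₁))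
    rw [hjψ, Category.assoc, Category.assoc, ← hS₁, ← Category.assoc (Spec.map (CommRingCat.ofHom ψ)), ← hS,
      CommRingCat.ofHom_comp, Spec.map_comp, ← hε]
    simp only [Category.assoc]
  obtain ⟨c, hc1, hc2⟩ := exists_lift_fp h𝒳 b a _ α lam jψ g₁ jφ _ hg r r' hr hr'
  have hinj : Function.Injective (φ.comp φ₁) := by
    have h1 : Function.Injective ((ψ.comp ψ₁).comp (algebraMap R (FractionRing R))) :=
      (ψ.comp ψ₁).injective.comp (IsFractionRing.injective R _)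
    have h2 : (ψ.comp ψ₁).comp (algebraMap R (FractionRing R)) = (algebraMap R' L').comp (φ.comp φ₁) := by
      rw [← RingHom.comp_assoc, hc, RingHom.comp_assoc, RingHom.comp_assoc, hc₁]
    rw [h2] at h1
    exact Function.Injective.of_comp (f := algebraMap R' L') h1
  have hcomp : IsLocalHom (φ.comp φ₁) := RingHom.isLocalHom_comp _ _
  rw [hlamφ] at hg hc2
  exact ⟨R', inferInstance, inferInstance, inferInstance, φ.comp φ₁, hinj, hcomp, lam ≫ jψ ≫ g₁, c, hg, hc1, hc2⟩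

end Dvr

end Groth.Agent.CurvSt.K877.UCLift
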